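import Groth.Agent.L15.TypeRLe.Global
import Groth.Prelude.Def_LieS

/-!
# Subgroups of type (R) with the same tangent space
-/

set_option autoImplicit false
set_option linter.unusedSectionVars false
set_option linter.style.haveILetI false
set_option backward.isDefEq.respectTransparency.types false
set_option maxHeartbeats 1000000

universe u

open CategoryTheory CategoryTheory.Limits AlgebraicGeometry MonoidalCategory CartesianMonoidalCategory MonObj
open Groth.L14.RankOne Groth.L25 Groth.L14.Chart Groth.L14.Chev.Cell Groth.L14.TypeR Groth.L14.BorelLoc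
open Groth.L15.TypeRLe

noncomputable section

namespace Groth.L14.LieEq

variable {S V : Scheme.{u}} {G T H H' : Over S} [GrpObj G] [GrpObj T] [GrpObj H] [GrpObj H'] {h : H ⟶ G}
  [IsMonHom h] {h' : H' ⟶ G} [IsMonHom h'] {f : V ⟶ S}

theorem toBase_one {X : Over V} : NilAction.toBase f (1 : X ⟶ Red.bc f G) = 1 :=
  map_one (MonoidHom.mk' (NilAction.toBase f : (X ⟶ Red.bc f G) → _) (NilAction.toBase_mul f))

/-- tangent roots are read on the images of the Lie algebras -/
theorem tanAt_of_range_le [Mono h] (D : Red.SplitRed (Red.bc f G)) [IsMonHom ((Over.pullback f).map h)]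
    [IsMonHom ((Over.pullback f).map h')] {K : Type u} [Field K] (g : Spec (CommRingCat.of K) ⟶ V) (c : D.idx)
    (hle : (LieS.map K (g ≫ f) h).range ≤ (LieS.map K (g ≫ f) h').range)
    (hc : TanAt D ((Over.pullback f).map h) g c) : TanAt D ((Over.pullback f).map h') g c := by
  haveI : IsMonHom (D.u c) := (D.rootHom c).1
  obtain ⟨y, hy⟩ := mem_HP.1 hc
  let x := gp g (DualNumber.eps : DualNumber K) ≫ D.u c
  let e := spComp f g (DualNumber K)
  let z0 : Sp g K ⟶ Sp g (DualNumber K) := mor g (TrivSqZeroExt.fstHom K K K)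
  have h0 : z0 ≫ x = 1 := by
    show mor g (TrivSqZeroExt.fstHom K K K) ≫ gp g (DualNumber.eps : DualNumber K) ≫ D.u c = 1
    have e0 : (TrivSqZeroExt.fstHom K K K) (DualNumber.eps : DualNumber K) = (0 : K) :=
      TrivSqZeroExt.fst_inr K (1 : K)
    rw [← Category.assoc, mor_gp, e0, gp_zero, MonObj.one_comp]
  let ι₀ : LieS.pt K (g ≫ f) ⟶ Over.mk ((Sp g K).hom ≫ f) := Over.homMk (𝟙 _) (by
    show 𝟙 _ ≫ (Spec.map (CommRingCat.ofHom (algebraMap K K)) ≫ g) ≫ f = g ≫ f
    rw [Category.id_comp, Category.assoc, show CommRingCat.ofHom (algebraMap K K) = 𝟙 _ from rfl, Spec.map_id,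
      Category.id_comp])
  have hz : LieS.zeroSec K (g ≫ f) ≫ e.inv ≫ NilAction.toBase f x = 1 := by
    rw [← MonObj.comp_one ι₀, ← toBase_one (G := G) (f := f), ← h0]
    refine Over.OverMorphism.ext ?_
    show Spec.map (CommRingCat.ofHom (TrivSqZeroExt.fstHom K K K).toRingHom) ≫ 𝟙 _ ≫ x.left ≫ _ =
      𝟙 _ ≫ (Spec.map (CommRingCat.ofHom (TrivSqZeroExt.fstHom K K K).toRingHom) ≫ x.left) ≫ _
    rw [Category.id_comp, Category.id_comp, Category.assoc]
  let y' : LieS.dpt K (g ≫ f) ⟶ H := e.inv ≫ NilAction.toBase f y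
  have hy' : y' ≫ h = e.inv ≫ NilAction.toBase f x := by
    show (_ ≫ _) ≫ h = _
    rw [Category.assoc, ← Groth.L14.RankOne.toBase_comp_map, hy]
    rfl
  have hyLie : y' ∈ LieS.Lie H K (g ≫ f) := by
    rw [LieS.mem_Lie_iff, ← cancel_mono h, Category.assoc, hy', MonObj.one_comp]
    exact hz
  obtain ⟨y'', hy''⟩ := hle ⟨⟨y', hyLie⟩, rfl⟩
  have hy3 : y''.1 ≫ h' = e.inv ≫ NilAction.toBase f x := (congrArg Subtype.val hy'').trans hy'
  refine mem_HP.2 ⟨NilAction.ofBase f (e.hom ≫ y''.1), Luna.SemiRank.toBase_inj f ?_⟩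
  rw [Groth.L14.RankOne.toBase_comp_map, NilAction.toBase_ofBase]
  exact (Category.assoc _ _ _).trans ((congrArg (e.hom ≫ ·) hy3).trans (Iso.hom_inv_id_assoc e _))

/-- equal Lie algebras give containment -/
theorem le_of_range (hG : Red.IsReductive G) (i : T ⟶ G) (hT : Red.IsMaximalTorus i) (hH : RedSub.IsTypeR h)
    (hH' : RedSub.IsTypeR h') (t : T ⟶ H) (t' : T ⟶ H') (ht : t ≫ h = i) (ht' : t' ≫ h' = i)
    (hle : ∀ (K : Type u) [Field K] (g : Spec (CommRingCat.of K) ⟶ S),
      (LieS.map K g h).range ≤ (LieS.map K g h').range) :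
    Le h h' (𝟙 S) := by
  haveI := hH.1.2; haveI := hH.2.1
  haveI := hH'.1.2; haveI := hH'.2.1
  haveI : Mono h := Over.mono_of_mono_left h
  refine le_of_local fun s => ?_
  obtain ⟨V, f, hf, r, hs, hGf, hTf, ⟨R⟩⟩ := Groth.L14.Splitting.exists_rootData_etale hG i hT s
  let D : Red.SplitRed (Red.bc f G) := R.splitRed (fun _ => trivial) hGf hTf
  haveI : IsMonHom ((Over.pullback f).map h) := Groth.L25.MonoClosed.isMonHom_pullbackMap _ _
  haveI : IsMonHom ((Over.pullback f).map h') := Groth.L25.MonoClosed.isMonHom_pullbackMap _ _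
  have hh : IsImmersion ((Over.pullback f).map h).left :=
    MorphismProperty.overPullbackMap (P := @IsImmersion) f h hH.1.2
  have hh' : IsImmersion ((Over.pullback f).map h').left :=
    MorphismProperty.overPullbackMap (P := @IsImmersion) f h' hH'.1.2
  haveI : Smooth (Red.bc f H).hom := MorphismProperty.pullback_snd (P := @Smooth) _ _ hH.2.1
  haveI : Smooth (Red.bc f H').hom := MorphismProperty.pullback_snd (P := @Smooth) _ _ hH'.2.1
  have hconn : RedSub.HasConnectedFibres (Red.bc f H) :=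
    fun v => Extension.isConnected_fibre_bc f H hH.2.2.2.1 v
  have htf : ((Over.pullback f).map t : D.T ⟶ Red.bc f H) ≫ (Over.pullback f).map h = D.i := by
    show (Over.pullback f).map t ≫ (Over.pullback f).map h = (Over.pullback f).map i
    rw [← Functor.map_comp, ht]
  have htf' : ((Over.pullback f).map t' : D.T ⟶ Red.bc f H') ≫ (Over.pullback f).map h' = D.i := by
    show (Over.pullback f).map t' ≫ (Over.pullback f).map h' = (Over.pullback f).map i
    rw [← Functor.map_comp, ht']
  have hleV : Le h h' f := by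
    have := le_of_tanAt (D := D) hh hconn hh' _ htf _ htf' (𝟙 V)
      fun v c hc => tanAt_of_range_le D _ c (hle _ _) hc
    rw [le_bc_iff, Category.id_comp] at this
    exact this
  exact ⟨V, f, inferInstance, hs, by rw [Category.comp_id]; exact hleV⟩

/-- isomorphic subgroups have the same Lie algebra -/
theorem range_le_of_iso [Mono h'] (e : H ≅ H') (he : e.hom ≫ h' = h) {B : Type u} [CommRing B]
    (g : Spec (CommRingCat.of B) ⟶ S) : (LieS.map B g h).range ≤ (LieS.map B g h').range := by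
  rintro _ ⟨⟨z, hz⟩, rfl⟩
  refine ⟨⟨z ≫ e.hom, ?_⟩, Subtype.ext ?_⟩
  · rw [LieS.mem_Lie_iff] at hz ⊢
    rw [← cancel_mono h', Category.assoc, Category.assoc, he, ← Category.assoc, hz, MonObj.one_comp, MonObj.one_comp]
  · show (z ≫ e.hom) ≫ h' = z ≫ h
    rw [Category.assoc, he]

end Groth.L14.LieEq
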